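import Cfsg.Agent.Lib.Small.E8Cores.Parabolic

/-!
A normal subgroup of the parabolic subgroup inside its conjugate lies deep in the radical.
-/

set_option autoImplicit false
set_option maxRecDepth 10000

namespace Cfsg.Agent.Small.E8Cores

open Cfsg.Lie Cfsg.Agent.Lie Cfsg.Agent.Small.C2Inv.Cert
open scoped MatrixGroups Pointwise

local notation "F₂" => ZMod 2

attribute [local irreducible] Lv LvL lev QQ nd

variable (hF : Facts chevE8)

theorem bottom_zero : ∀ k < 8, isBottom 0 (chevE8.simple k) = true → k ≠ 3 := by decide +kernel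

theorem bottom_one : ∀ k < 8, isBottom 1 (chevE8.simple k) = true → k = 3 := by decide +kernel

theorem bottom_two {j p : ℕ} (hj : 2 ≤ j) : isBottom j p = false := by
  rw [isBottom, decide_eq_false (not_le.2 (by omega)), Bool.false_and]

include hF in
/-- From one node of a normal subgroup's parabolic to its neighbour. -/
theorem neighbour {N H : Subgroup (GL chevE8.Idx F₂)} {k l : ℕ} (hk : k < 8) (hl : l < 8)
    (hr1 : chevE8.reflectRoot l (chevE8.reflectRoot k (chevE8.simple l)) = chevE8.simple k)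
    (hr2 : chevE8.reflectRoot k (chevE8.simple l) = chevE8.reflectRoot l (chevE8.simple k))
    (hkM : nd hF k hk ∈ N ⊔ (hF.tsys F₂).U)
    (hUN : (hF.tsys F₂).U ≤ Subgroup.normalizer (N : Set (GL chevE8.Idx F₂)))
    (hUH : (hF.tsys F₂).U ≤ H) (hkH : nd hF k hk ∈ H)
    (hlN : ∀ g ∈ N, nd hF l hl * g * nd hF l hl ∈ H) : nd hF l hl ∈ H := by
  have hset := Subgroup.coe_mul_of_right_le_normalizer_left N (hF.tsys F₂).U hUN
  have hkM' : nd hF k hk ∈ (N : Set (GL chevE8.Idx F₂)) * ((hF.tsys F₂).U : Set (GL chevE8.Idx F₂)) := by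
    rw [← hset]; exact hkM
  obtain ⟨g, hg, u, hu, hgu⟩ := Set.mem_mul.1 hkM'
  obtain ⟨v, hv, a, hua⟩ := (hF.tsys F₂).U_split ⟨l, lt_rk hl⟩ hu
  rw [Facts.tsys_x] at hua
  simp only at hua
  set xl := hF.xg (chevE8.simple l) a with hxl
  have hxinv : xl⁻¹ = xl := by rw [hxl, ← hF.xg_neg, CharTwo.neg_eq]
  have hg' : g = nd hF k hk * (xl * v⁻¹) := by
    rw [← hgu, hua, show xl * v⁻¹ = (v * xl)⁻¹ by rw [_root_.mul_inv_rev, hxinv], mul_inv_cancel_right]
  have hsl : chevE8.simple l < 240 := by rw [← nr]; exact hF.simple_lt l (lt_rk hl)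
  have hrl : chevE8.reflectRoot k (chevE8.simple l) < 240 := by
    rw [← nr]; exact hF.refl_lt k (lt_rk hk) _ (hF.simple_lt l (lt_rk hl))
  have hm1 : nd hF k hk * xl = hF.xg (chevE8.reflectRoot k (chevE8.simple l)) a * nd hF k hk := by
    rw [← nd_x hF hk hsl a, ← hxl, mul_assoc, nd_sq hF hk, mul_one]
  have hm2 : nd hF l hl * hF.xg (chevE8.reflectRoot k (chevE8.simple l)) a =
      hF.xg (chevE8.simple k) a * nd hF l hl := by
    have e := nd_x hF hl hrl a
    rw [hr1] at e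
    rw [← e, mul_assoc, nd_sq hF hl, mul_one]
  set xk := hF.xg (chevE8.simple k) a with hxk
  have hxk2 : xk * xk = 1 := by rw [hxk, ← hF.xg_add, CharTwo.add_self_eq_zero, hF.xg_zero]
  have hw : nd hF l hl * v⁻¹ * nd hF l hl ∈ H := hUH (nd_posNe hF hl (inv_mem hv))
  have hgl := hlN g hg
  have hexp : nd hF l hl * g * nd hF l hl =
      xk * (nd hF l hl * nd hF k hk * nd hF l hl) * (nd hF l hl * v⁻¹ * nd hF l hl) := by
    rw [hg']
    calc nd hF l hl * (nd hF k hk * (xl * v⁻¹)) * nd hF l hl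
        = nd hF l hl * (nd hF k hk * xl) * v⁻¹ * nd hF l hl := by simp only [mul_assoc]
      _ = (nd hF l hl * hF.xg (chevE8.reflectRoot k (chevE8.simple l)) a) * nd hF k hk * v⁻¹ * nd hF l hl := by
          rw [hm1]; simp only [mul_assoc]
      _ = xk * nd hF l hl * nd hF k hk * (nd hF l hl * nd hF l hl) * v⁻¹ * nd hF l hl := by
          rw [hm2, nd_sq hF hl]; simp only [mul_assoc, mul_one, one_mul]
      _ = _ := by simp only [mul_assoc]
  have hxkH : xk ∈ H := hUH (by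
    have := (hF.tsys F₂).x_mem_U (hF.simple_ge k (lt_rk hk)) (hF.simple_lt k (lt_rk hk)) a
    rw [Facts.tsys_x] at this
    exact this)
  have h3 : nd hF l hl * nd hF k hk * nd hF l hl ∈ H := by
    rw [hexp] at hgl
    exact (Subgroup.mul_mem_cancel_left _ hxkH).1 ((Subgroup.mul_mem_cancel_right _ hw).1 hgl)
  rw [← braid hF hk hl hr2] at h3
  exact (Subgroup.mul_mem_cancel_left _ hkH).1 ((Subgroup.mul_mem_cancel_right _ hkH).1 h3)

include hF in
theorem nd_not_mem_U {k : ℕ} (hk : k < 8) : nd hF k hk ∉ (hF.tsys F₂).U := by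
  unfold nd
  intro h
  exact hF.nS_not_mem_B _ ((hF.tsys F₂).U_le_B h)

include hF in
theorem le_U {N : Subgroup (GL chevE8.Idx F₂)} (hN : N ≤ PP)
    (hn : ∀ m ∈ PP, ∀ g ∈ N, m * g * m⁻¹ ∈ N)
    (hs : ∀ g ∈ N, nd hF 3 (by norm_num) * g * nd hF 3 (by norm_num) ∈ PP) : N ≤ (hF.tsys F₂).U := by
  have hUN : (hF.tsys F₂).U ≤ Subgroup.normalizer (N : Set (GL chevE8.Idx F₂)) := by
    intro u hu
    have hu' := U_le_PP hF hu
    rw [Subgroup.mem_normalizer_iff]
    refine fun g => ⟨hn u hu' g, fun h => ?_⟩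
    have h1 := hn u⁻¹ (inv_mem hu') _ h
    rwa [show u⁻¹ * (u * g * u⁻¹) * u⁻¹⁻¹ = g by group] at h1
  have hle : N ⊔ (hF.tsys F₂).U ≤ PP := sup_le hN (U_le_PP hF)
  have hstep : ∀ k l (hk : k < 8) (hl : l < 8), (k, l) ∈ [(0, 2), (1, 3), (2, 3), (4, 3), (5, 4), (6, 5), (7, 6)] →
      nd hF k hk ∈ N ⊔ (hF.tsys F₂).U → l ≠ 3 ∧ nd hF l hl ∈ N ⊔ (hF.tsys F₂).U := by
    intro k l hk hl hkl hkM
    obtain ⟨-, -, hk3, hr1, hr2⟩ := braid_ok _ hkl
    simp only at hk3 hr1 hr2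
    by_cases hl3 : l = 3
    · exfalso
      subst hl3
      exact not_mem_PP hF (neighbour hF hk hl hr1 hr2 hkM hUN (U_le_PP hF) (nd_mem_PP hF hk hk3) hs)
    · refine ⟨hl3, neighbour hF hk hl hr1 hr2 hkM hUN le_sup_right hkM fun g hg => ?_⟩
      have := hn _ (nd_mem_PP hF hl hl3) g hg
      rw [nd_inv hF hl] at this
      exact Subgroup.mem_sup_left this
  have hnone : ∀ k (hk : k < 8), nd hF k hk ∈ N ⊔ (hF.tsys F₂).U → False := by
    intro k hk h
    have h12 : ∀ m (hm : m < 8), m = 1 ∨ m = 2 ∨ m = 4 → nd hF m hm ∈ N ⊔ (hF.tsys F₂).U → False := by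
      intro m hm hm' hmem
      refine (hstep m 3 hm (by norm_num) ?_ hmem).1 rfl
      rcases hm' with rfl | rfl | rfl <;> simp
    have h5 : ∀ hm : 5 < 8, nd hF 5 hm ∈ N ⊔ (hF.tsys F₂).U → False := fun hm hmem =>
      h12 4 (by norm_num) (by norm_num) (hstep 5 4 hm (by norm_num) (by simp) hmem).2
    have h6 : ∀ hm : 6 < 8, nd hF 6 hm ∈ N ⊔ (hF.tsys F₂).U → False := fun hm hmem =>
      h5 (by norm_num) (hstep 6 5 hm (by norm_num) (by simp) hmem).2
    rcases (show k = 0 ∨ k = 1 ∨ k = 2 ∨ k = 3 ∨ k = 4 ∨ k = 5 ∨ k = 6 ∨ k = 7 by omega) with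
      rfl | rfl | rfl | rfl | rfl | rfl | rfl | rfl
    · exact h12 2 (by norm_num) (by norm_num) (hstep 0 2 hk (by norm_num) (by simp) h).2
    · exact h12 1 hk (by norm_num) h
    · exact h12 2 hk (by norm_num) h
    · exact not_mem_PP hF (hle h)
    · exact h12 4 hk (by norm_num) h
    · exact h5 hk h
    · exact h6 hk h
    · exact h6 (by norm_num) (hstep 7 6 hk (by norm_num) (by simp) h).2
  have hB : (hF.bnPair F₂).B ≤ (N ⊔ (hF.tsys F₂).U).subgroupOf (chevE8.group F₂) := by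
    rw [bn_B hF, U_eq_B hF]
    exact fun b hb => Subgroup.mem_sup_right (Subgroup.mem_subgroupOf.1 hb)
  intro g hg
  have hgG := PP_le_group hF (hN hg)
  have h1 : (⟨g, hgG⟩ : ↥(chevE8.group F₂)) ∈ (N ⊔ (hF.tsys F₂).U).subgroupOf (chevE8.group F₂) :=
    Subgroup.mem_subgroupOf.2 (Subgroup.mem_sup_left hg)
  have hempty : (hF.bnPair F₂).S ∩ ((N ⊔ (hF.tsys F₂).U).subgroupOf (chevE8.group F₂) : Set _) = ∅ := by
    rw [Set.eq_empty_iff_forall_notMem]
    rintro x ⟨⟨i, rfl⟩, hx⟩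
    have hi : i.val < 8 := rk ▸ i.isLt
    refine hnone i.val hi ?_
    have h2 := Subgroup.mem_subgroupOf.1 (SetLike.mem_coe.1 hx)
    simp only at h2
    unfold nd
    convert h2 using 2
  rw [Tits.eq_parabolic hB, hempty] at h1
  rw [BNPair.parabolic, Subgroup.closure_empty, sup_bot_eq, bn_B hF, U_eq_B hF] at h1
  exact Subgroup.mem_subgroupOf.1 h1

include hF in
theorem base {N : Subgroup (GL chevE8.Idx F₂)} (hN : N ≤ PP)
    (hn : ∀ m ∈ PP, ∀ g ∈ N, m * g * m⁻¹ ∈ N)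
    (hs : ∀ g ∈ N, nd hF 3 (by norm_num) * g * nd hF 3 (by norm_num) ∈ PP) : N ≤ QQ hF 2 := by
  have hU := le_U hF hN hn hs
  have hlev : ∀ k (hk : k < 8), k ≠ 3 → ∀ g ∈ N, nd hF k hk * g * nd hF k hk ∈ N := by
    intro k hk h3 g hg
    have := hn _ (nd_mem_PP hF hk h3) g hg
    rwa [nd_inv hF hk] at this
  have h1 : N ≤ QQ hF 1 := by
    refine descend hF (j := 0) (by norm_num) (by rw [QQ_zero hF]; exact hU) hlev
      (fun h => absurd h (by norm_num)) fun g hg c hc k hk hb => ?_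
    refine coef_simple_zero hF hk le_rfl ?_ (nd_not_mem_U hF hk)
    rw [← hc]
    exact hU (hlev k hk (bottom_zero k hk hb) g hg)
  refine descend hF (j := 1) (by norm_num) h1 hlev (fun h => absurd h (by norm_num)) fun g hg c hc k hk hb => ?_
  obtain rfl := bottom_one k hk hb
  refine coef_simple_zero hF hk (U_le_PP hF) ?_ (not_mem_PP hF)
  rw [← hc]
  exact hs g hg

include hF in
theorem step {N : Subgroup (GL chevE8.Idx F₂)} {j : ℕ} (hj : 2 ≤ j) (hj' : j < 7) (hN : N ≤ QQ hF j)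
    (hn : ∀ m ∈ PP, ∀ g ∈ N, m * g * m⁻¹ ∈ N)
    (hs : ∀ g ∈ N, nd hF 3 (by norm_num) * g * nd hF 3 (by norm_num) ∈ QQ hF j) : N ≤ QQ hF (j + 1) := by
  refine descend hF hj' hN (fun k hk h3 g hg => ?_) (fun _ => hs) fun g _ c _ k _ hb => ?_
  · have := hn _ (nd_mem_PP hF hk h3) g hg
    rwa [nd_inv hF hk] at this
  · rw [bottom_two hj] at hb
    cases hb

end Cfsg.Agent.Small.E8Cores
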