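import Cfsg.Agent.Lib.Small.Char2Invol.Check
import Cfsg.Agent.Lib.Small.Char2Invol.Data.TabE8

/-!
The grading of the root system of type E8 by the coefficient at the node of height six: checks on masks.
-/

set_option autoImplicit false
set_option maxRecDepth 20000

namespace Cfsg.Agent.Small.E8Cores

open Cfsg.Lie Cfsg.Agent.Lie Cfsg.Agent.Small.C2Inv.Cert
open Cfsg.Agent.Small.C2Inv.Cert.E8 (tab)

/-- The coefficient at the branch node. -/
def lev (r : ℕ) : ℕ := ((chevE8.coroot.getD r #[]).getD 3 0).toNat

/-- The roots of level at least j. -/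
def LvL (j : ℕ) : List ℕ := (Facts.posL chevE8).filter fun r => decide (j ≤ lev r)

/-- Their mask. -/
def Lv (j : ℕ) : ℕ := addBits 0 (LvL j)

/-- The roots left when those of level j below p are removed. -/
def DL (j p : ℕ) : List ℕ :=
  (Facts.posL chevE8).filter fun r => decide (j < lev r) || (decide (lev r = j) && decide (p ≤ r))

/-- The reflection image of a mask. -/
def imgM (k L : ℕ) : ℕ := addBits 0 ((Facts.posL chevE8).filter fun s => has L (tab.R chevE8 k s))

/-- A step down from p. -/
def descK (j p k L : ℕ) : Bool :=
  force (tab.R chevE8 k p) fun p' =>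
    !(has L (chevE8.simple k)) &&
    ((Facts.posL chevE8).all fun r => !(has L r) || decide (120 ≤ tab.R chevE8 k r)) &&
    decide (120 ≤ p') && decide (p' < 240) && (tab.R chevE8 k p' == p) &&
    force (imgM k L) fun L' => has L' p' && indecB tab L' p' &&
      if k == 3 then decide (2 ≤ j) && decide (lev p' < j) else decide (lev p' = j) && decide (p' < p)

/-- The lowest roots of levels zero and one. -/
def isBottom (j p : ℕ) : Bool :=
  decide (j ≤ 1) && (List.range 8).any fun k => (p == chevE8.simple k) && (decide (j = 0) != (k == 3))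

/-- Every root of level j is a bottom root or steps down. -/
def descOk (j p : ℕ) : Bool :=
  !(decide (lev p = j)) || isBottom j p ||
    force (addBits 0 (DL j p)) fun L =>
      extB chevE8 tab 0 (DL j p) && (List.range 8).any fun k => descK j p k L

/-- The masks are normalised by the parabolic subgroup. -/
def normOk (j : ℕ) : Bool :=
  force (Lv j) fun L =>
    ((Facts.posL chevE8).all fun r => (tab.row.get r).all fun e => !(has L e.1) || has L e.2.1) &&
    ((List.range 8).all fun k => (k == 3) ||
      (!(has L (chevE8.simple k)) && (Facts.posL chevE8).all fun r =>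
        !(has L r) || has L (tab.R chevE8 k r)))

theorem nr : chevE8.nroots = 240 := by decide +kernel

theorem rk : chevE8.rank = 8 := by decide +kernel

theorem desc_ok0 : ((List.range' 120 120).all fun p => descOk 0 p) = true := by decide +kernel

theorem desc_ok1 : ((List.range' 120 120).all fun p => descOk 1 p) = true := by decide +kernel

theorem desc_ok2 : ((List.range' 120 120).all fun p => descOk 2 p) = true := by decide +kernel

theorem desc_ok3 : ((List.range' 120 120).all fun p => descOk 3 p) = true := by decide +kernel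

theorem desc_ok4 : ((List.range' 120 120).all fun p => descOk 4 p) = true := by decide +kernel

theorem desc_ok5 : ((List.range' 120 120).all fun p => descOk 5 p) = true := by decide +kernel

theorem desc_ok6 : ((List.range' 120 120).all fun p => descOk 6 p) = true := by decide +kernel

theorem desc_ok : ∀ j < 7, ∀ p < 240, 120 ≤ p → descOk j p = true := by
  intro j hj p hp hp'
  have hm : p ∈ List.range' 120 120 := List.mem_range'_1.2 ⟨hp', by omega⟩
  rcases j with _ | _ | _ | _ | _ | _ | _ | j
  exacts [List.all_eq_true.1 desc_ok0 p hm, List.all_eq_true.1 desc_ok1 p hm, List.all_eq_true.1 desc_ok2 p hm,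
    List.all_eq_true.1 desc_ok3 p hm, List.all_eq_true.1 desc_ok4 p hm, List.all_eq_true.1 desc_ok5 p hm,
    List.all_eq_true.1 desc_ok6 p hm, absurd hj (by omega)]

theorem norm_ok : ∀ j < 8, 1 ≤ j → normOk j = true := by
  have h : ((List.range' 1 7).all fun j => normOk j) = true := by decide +kernel
  simp only [List.all_eq_true] at h
  exact fun j hj hj' => h j (List.mem_range'_1.2 ⟨hj', by omega⟩)

theorem ext_ok : ∀ j < 8, extB chevE8 tab 0 (LvL j) = true := by
  have h : ((List.range 8).all fun j => extB chevE8 tab 0 (LvL j)) = true := by decide +kernel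
  simp only [List.all_eq_true, List.mem_range] at h
  exact h

theorem lev_le : ∀ r < 240, lev r ≤ 6 := by
  have h : ((List.range 240).all fun r => decide (lev r ≤ 6)) = true := by decide +kernel
  simp only [List.all_eq_true, List.mem_range, decide_eq_true_eq] at h
  exact h

theorem drop_ok : ∀ j < 6, ∀ r < 240, 120 ≤ r → j + 2 ≤ lev r →
    120 ≤ chevE8.reflectRoot 3 r ∧ j + 1 ≤ lev (chevE8.reflectRoot 3 r) := by
  have h : ((List.range 6).all fun j => (List.range' 120 120).all fun r => !(decide (j + 2 ≤ lev r)) ||
      (decide (120 ≤ chevE8.reflectRoot 3 r) && decide (j + 1 ≤ lev (chevE8.reflectRoot 3 r)))) = true := by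
    decide +kernel
  simp only [List.all_eq_true, List.mem_range, Bool.or_eq_true, Bool.not_eq_true', decide_eq_false_iff_not,
    Bool.and_eq_true, decide_eq_true_eq] at h
  exact fun j hj r hr hr' hl => (h j hj r (List.mem_range'_1.2 ⟨hr', by omega⟩)).resolve_left (not_not.2 hl)

theorem braid_ok : ∀ kl ∈ [(0, 2), (1, 3), (2, 3), (4, 3), (5, 4), (6, 5), (7, 6)],
    kl.1 < 8 ∧ kl.2 < 8 ∧ kl.1 ≠ 3 ∧
    chevE8.reflectRoot kl.2 (chevE8.reflectRoot kl.1 (chevE8.simple kl.2)) = chevE8.simple kl.1 ∧
    chevE8.reflectRoot kl.1 (chevE8.simple kl.2) = chevE8.reflectRoot kl.2 (chevE8.simple kl.1) := by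
  decide +kernel

theorem top_root : ∃ r < 240, 120 ≤ r ∧ lev r = 6 := ⟨239, by decide +kernel⟩

end Cfsg.Agent.Small.E8Cores
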