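import Mathlib

/-!
Two interlaced sequences of cores attached to a subgroup and a conjugate of it.
-/

set_option autoImplicit false

namespace Cfsg.Agent.Small.E8Cores

variable {G : Type*} [Group G]

/-- The core in M of a subgroup of G. -/
def coreIn (M Y : Subgroup G) : Subgroup G := (Y.subgroupOf M).normalCore.map M.subtype

theorem coreIn_le (M Y : Subgroup G) : coreIn M Y ≤ Y := by
  rintro x ⟨y, hy, rfl⟩
  exact (Y.subgroupOf M).normalCore_le hy

theorem coreIn_le_left (M Y : Subgroup G) : coreIn M Y ≤ M := by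
  rintro x ⟨y, -, rfl⟩
  exact y.2

theorem coreIn_conj (M Y : Subgroup G) {m x : G} (hm : m ∈ M) (hx : x ∈ coreIn M Y) :
    m * x * m⁻¹ ∈ coreIn M Y := by
  obtain ⟨y, hy, rfl⟩ := hx
  exact ⟨⟨m, hm⟩ * y * (⟨m, hm⟩ : M)⁻¹, Subgroup.Normal.conj_mem inferInstance y hy _, rfl⟩

theorem le_coreIn {M Y X : Subgroup G} (hXY : X ≤ Y) (hXM : X ≤ M)
    (hn : ∀ m ∈ M, ∀ x ∈ X, m * x * m⁻¹ ∈ X) : X ≤ coreIn M Y := by
  intro x hx
  have hN : (X.subgroupOf M).Normal := ⟨fun a ha b => hn b.1 b.2 a.1 ha⟩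
  refine ⟨⟨x, hXM hx⟩, ?_, rfl⟩
  have hle : X.subgroupOf M ≤ Y.subgroupOf M := fun a ha => hXY ha
  exact (Subgroup.normal_le_normalCore.2 hle) (x := ⟨x, hXM hx⟩) hx

/-- The pair of sequences. -/
def coreSeq (M₁ M₂ : Subgroup G) : ℕ → Subgroup G × Subgroup G
  | 0 => (M₁, M₂)
  | i + 1 => (coreIn M₁ ((coreSeq M₁ M₂ i).1 ⊓ (coreSeq M₁ M₂ i).2),
      coreIn M₂ ((coreSeq M₁ M₂ i).1 ⊓ (coreSeq M₁ M₂ i).2))

theorem mem_map_conj {H : Subgroup G} {g x : G} :
    x ∈ H.map (MulAut.conj g).toMonoidHom ↔ g⁻¹ * x * g ∈ H := by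
  constructor
  · rintro ⟨y, hy, rfl⟩
    simpa [mul_assoc] using hy
  · intro h
    exact ⟨_, h, by simp [mul_assoc]⟩

/-- For an involution s the second sequence is the conjugate of the first. -/
theorem snd_iff {M : Subgroup G} {s : G} (hs : s⁻¹ = s) : ∀ (i : ℕ) (x : G),
    x ∈ (coreSeq M (M.map (MulAut.conj s).toMonoidHom) i).2 ↔
      s * x * s⁻¹ ∈ (coreSeq M (M.map (MulAut.conj s).toMonoidHom) i).1 := by
  intro i
  induction i with
  | zero =>
    intro x
    rw [coreSeq, mem_map_conj, hs]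
  | succ i ih =>
    have hss : s * s = 1 := by rw [← mul_inv_cancel s, hs]
    have hsym : ∀ x, x ∈ (coreSeq M (M.map (MulAut.conj s).toMonoidHom) i).1 ⊓
        (coreSeq M (M.map (MulAut.conj s).toMonoidHom) i).2 ↔ s * x * s⁻¹ ∈
        (coreSeq M (M.map (MulAut.conj s).toMonoidHom) i).1 ⊓
        (coreSeq M (M.map (MulAut.conj s).toMonoidHom) i).2 := by
      intro x
      rw [Subgroup.mem_inf, Subgroup.mem_inf, ih x, ih (s * x * s⁻¹)]
      have e : s * (s * x * s⁻¹) * s⁻¹ = x := by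
        rw [hs, show s * (s * x * s) * s = (s * s) * x * (s * s) by group, hss, one_mul, mul_one]
      rw [e]
      tauto
    generalize hY : (coreSeq M (M.map (MulAut.conj s).toMonoidHom) i).1 ⊓
      (coreSeq M (M.map (MulAut.conj s).toMonoidHom) i).2 = Y at hsym
    intro x
    simp only [coreSeq, hY]
    have key : ∀ N : Subgroup G, ∀ z, z ∈ coreIn N Y →
        s * z * s⁻¹ ∈ coreIn (N.map (MulAut.conj s).toMonoidHom) Y := by
      intro N z hz
      have hmap : z ∈ coreIn N Y → s * z * s⁻¹ ∈ (coreIn N Y).map (MulAut.conj s).toMonoidHom :=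
        fun h => ⟨z, h, rfl⟩
      refine le_coreIn ?_ (Subgroup.map_mono (coreIn_le_left N Y)) ?_ (hmap hz)
      · rintro _ ⟨w, hw, rfl⟩
        exact (hsym w).1 (coreIn_le N Y hw)
      · rintro m ⟨n, hn, rfl⟩ _ ⟨w, hw, rfl⟩
        exact ⟨_, coreIn_conj N Y hn hw, by simp [mul_assoc]⟩
    have hMM : (M.map (MulAut.conj s).toMonoidHom).map (MulAut.conj s).toMonoidHom = M := by
      ext z
      rw [mem_map_conj, mem_map_conj, hs, show s * (s * z * s) * s = (s * s) * z * (s * s) by group, hss,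
        one_mul, mul_one]
    constructor
    · intro h
      have := key _ _ h
      rwa [hMM] at this
    · intro h
      have := key _ _ h
      rw [show s * (s * x * s⁻¹) * s⁻¹ = x by
        rw [hs, show s * (s * x * s) * s = (s * s) * x * (s * s) by group, hss, one_mul, mul_one]] at this
      exact this

end Cfsg.Agent.Small.E8Cores
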