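import Cfsg.Agent.Lib.Small.E8Cores.Base
import Cfsg.Agent.Lib.Small.E8Cores.Seq
import Cfsg.Agent.S1054

/-!
The iterated cores of the parabolic subgroup of E₈(2) at the branch node and its conjugate.
-/

set_option autoImplicit false
set_option maxRecDepth 10000

namespace Cfsg.Agent.Small.E8Cores

open Cfsg.Lie Cfsg.Agent.Lie
open scoped MatrixGroups

local notation "F₂" => ZMod 2

attribute [local irreducible] Lv LvL lev QQ nd PP

variable (hF : Facts chevE8)

/-- The first maximal subgroup. -/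
noncomputable def M1 : Subgroup ↥(chevE8.group F₂) := PP.subgroupOf (chevE8.group F₂)

/-- The conjugating element. -/
noncomputable def sG : ↥(chevE8.group F₂) := ⟨nd hF 3 (by norm_num), nd_mem_group hF _⟩

/-- The terms of the radical series in the group. -/
noncomputable def QG (j : ℕ) : Subgroup ↥(chevE8.group F₂) := (QQ hF j).subgroupOf (chevE8.group F₂)

include hF in
theorem sG_inv : (sG hF)⁻¹ = sG hF := by
  apply Subtype.ext
  rw [Subgroup.coe_inv]
  exact nd_inv hF _

include hF in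
theorem sG_conj (x : ↥(chevE8.group F₂)) :
    ((sG hF * x * (sG hF)⁻¹ : ↥(chevE8.group F₂)) : GL chevE8.Idx F₂) =
      nd hF 3 (by norm_num) * (x : GL chevE8.Idx F₂) * nd hF 3 (by norm_num) := by
  rw [sG_inv hF, Subgroup.coe_mul, Subgroup.coe_mul]
  rfl

include hF in
theorem sG_not_mem : sG hF ∉ M1 := fun h => not_mem_PP hF (Subgroup.mem_subgroupOf.1 h)

include hF in
theorem B_le_M1 : (hF.bnPair F₂).B ≤ M1 := by
  rw [bn_B hF, U_eq_B hF]
  exact fun b hb => Subgroup.mem_subgroupOf.2 (U_le_PP hF (Subgroup.mem_subgroupOf.1 hb))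

include hF in
theorem isCoatom_M1 : IsCoatom (M1 : Subgroup ↥(chevE8.group F₂)) := by
  constructor
  · intro h
    exact sG_not_mem hF (h ▸ Subgroup.mem_top _)
  · intro M hM
    have hBM : (hF.bnPair F₂).B ≤ M := (B_le_M1 hF).trans hM.le
    by_cases hs : sG hF ∈ M
    · rw [eq_top_iff, ← Tits.parabolic_S (P := hF.bnPair F₂)]
      refine sup_le hBM ((Subgroup.closure_le _).2 ?_)
      rintro x ⟨i, rfl⟩
      by_cases h3 : i.val = 3
      · obtain rfl : i = ⟨3, lt_rk (by norm_num)⟩ := Fin.ext h3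
        convert hs using 1
        unfold sG nd
        rfl
      · refine hM.le (Subgroup.mem_subgroupOf.2 ?_)
        have := nd_mem_PP hF (k := i.val) (rk ▸ i.isLt) h3
        unfold nd at this
        exact this
    · exfalso
      refine hM.not_ge ?_
      rw [Tits.eq_parabolic hBM]
      refine le_trans (sup_le_sup le_rfl (Subgroup.closure_mono ?_)) (parabolic_le_PP hF)
      rintro x ⟨⟨i, rfl⟩, hx⟩
      refine ⟨i.val, rk ▸ i.isLt, fun h3 => hs ?_, ?_⟩
      · obtain rfl : i = ⟨3, lt_rk (by norm_num)⟩ := Fin.ext h3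
        convert SetLike.mem_coe.1 hx using 1
        unfold sG nd
        rfl
      · unfold nd
        rfl

include hF in
theorem M1_ne_conj : (M1 : Subgroup ↥(chevE8.group F₂)) ≠ M1.map (MulAut.conj (sG hF)).toMonoidHom := by
  intro h
  refine sG_not_mem hF (Tits.mem_of_conj_B_le (B_le_M1 hF) (sG hF) fun b hb => ?_)
  rw [h]
  exact ⟨b, B_le_M1 hF hb, rfl⟩

include hF in
theorem M1_core : (M1 : Subgroup ↥(chevE8.group F₂)).normalCore = ⊥ := by
  have hs := (Cfsg.Agent.S1054.result (F := F₂) chevE8 (by simp)).1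
  rcases hs.eq_bot_or_eq_top_of_normal M1.normalCore inferInstance with h | h
  · exact h
  · exfalso
    exact sG_not_mem hF (M1.normalCore_le (h ▸ Subgroup.mem_top _))

/-- The first sequence. -/
noncomputable def seqA (i : ℕ) : Subgroup ↥(chevE8.group F₂) :=
  (coreSeq M1 (M1.map (MulAut.conj (sG hF)).toMonoidHom) i).1

/-- The second sequence. -/
noncomputable def seqB (i : ℕ) : Subgroup ↥(chevE8.group F₂) :=
  (coreSeq M1 (M1.map (MulAut.conj (sG hF)).toMonoidHom) i).2

include hF in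
theorem mem_seqB {i : ℕ} {x : ↥(chevE8.group F₂)} :
    x ∈ seqB hF i ↔ sG hF * x * (sG hF)⁻¹ ∈ seqA hF i := snd_iff (sG_inv hF) i x

include hF in
theorem seqA_succ (i : ℕ) : seqA hF (i + 1) = coreIn M1 (seqA hF i ⊓ seqB hF i) := rfl

include hF in
theorem lower : ∀ i, i ≤ 5 → QG hF (i + 1) ≤ seqA hF i
  | 0, _ => fun x hx => Subgroup.mem_subgroupOf.2 (QQ_le_PP hF 1 (Subgroup.mem_subgroupOf.1 hx))
  | i + 1, hi => by
    have ih := lower i (by omega)
    rw [seqA_succ]
    refine le_coreIn (fun x hx => ⟨?_, ?_⟩) ?_ fun m hm x hx => ?_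
    · exact ih (Subgroup.mem_subgroupOf.2 (QQ_mono hF (by omega) (Subgroup.mem_subgroupOf.1 hx)))
    · refine (mem_seqB hF).2 ?_
      refine ih (Subgroup.mem_subgroupOf.2 ?_)
      rw [sG_conj hF]
      exact drop_QQ hF (by omega) (Subgroup.mem_subgroupOf.1 hx)
    · exact fun x hx => Subgroup.mem_subgroupOf.2 (QQ_le_PP hF _ (Subgroup.mem_subgroupOf.1 hx))
    · refine Subgroup.mem_subgroupOf.2 ?_
      rw [Subgroup.coe_mul, Subgroup.coe_mul, Subgroup.coe_inv]
      exact conj_QQ hF (by omega) (by omega) (Subgroup.mem_subgroupOf.1 hm) (Subgroup.mem_subgroupOf.1 hx)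

include hF in
theorem map_conj {i : ℕ} {g m : GL chevE8.Idx F₂}
    (hg : g ∈ (seqA hF (i + 1)).map (chevE8.group F₂).subtype) (hm : m ∈ PP) :
    m * g * m⁻¹ ∈ (seqA hF (i + 1)).map (chevE8.group F₂).subtype := by
  obtain ⟨y, hy, rfl⟩ := Subgroup.mem_map.1 hg
  have hmG := PP_le_group hF hm
  have h := coreIn_conj M1 (seqA hF i ⊓ seqB hF i) (m := (⟨m, hmG⟩ : ↥(chevE8.group F₂)))
    (Subgroup.mem_subgroupOf.2 hm) hy
  have h' := Subgroup.mem_map_of_mem (chevE8.group F₂).subtype h
  simp only [map_mul, map_inv, Subgroup.coe_subtype] at h' ⊢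
  exact h'

include hF in
theorem upper : ∀ i, i ≤ 5 → seqA hF (i + 1) ≤ QG hF (i + 2) := by
  intro i
  induction i with
  | zero =>
    intro _ x hx
    refine Subgroup.mem_subgroupOf.2
      (base hF (N := (seqA hF 1).map (chevE8.group F₂).subtype) ?_ ?_ ?_ (Subgroup.mem_map_of_mem _ hx))
    · rintro g ⟨y, hy, rfl⟩
      exact Subgroup.mem_subgroupOf.1 (coreIn_le_left _ _ hy)
    · intro m hm g hg
      exact map_conj hF hg hm
    · rintro g ⟨y, hy, rfl⟩
      have h := (mem_seqB hF).1 (coreIn_le _ _ hy).2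
      have h1 := Subgroup.mem_subgroupOf.1 (show sG hF * y * (sG hF)⁻¹ ∈ M1 from h)
      rw [sG_conj hF] at h1
      exact h1
  | succ i ih =>
    intro hi x hx
    have ih' := ih (by omega)
    refine Subgroup.mem_subgroupOf.2
      (step hF (N := (seqA hF (i + 2)).map (chevE8.group F₂).subtype) (j := i + 2) (by omega) (by omega) ?_ ?_ ?_
        (Subgroup.mem_map_of_mem _ hx))
    · rintro g ⟨y, hy, rfl⟩
      exact Subgroup.mem_subgroupOf.1 (ih' (coreIn_le _ _ hy).1)
    · intro m hm g hg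
      exact map_conj hF hg hm
    · rintro g ⟨y, hy, rfl⟩
      have h := (mem_seqB hF).1 (coreIn_le _ _ hy).2
      have h1 := Subgroup.mem_subgroupOf.1 (ih' h)
      rw [sG_conj hF] at h1
      exact h1

include hF in
theorem seqA_six : seqA hF 6 = ⊥ := by
  rw [eq_bot_iff]
  intro x hx
  have h := Subgroup.mem_subgroupOf.1 (upper hF 5 le_rfl hx)
  rw [QQ_seven hF, Subgroup.mem_bot] at h
  exact Subgroup.mem_bot.2 (Subtype.ext h)

include hF in
theorem seqA_five_ne : seqA hF 5 ≠ ⊥ := by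
  intro h
  refine QQ_six_ne hF (eq_bot_iff.2 fun g hg => ?_)
  have hgG : g ∈ chevE8.group F₂ := PP_le_group hF (QQ_le_PP hF 6 hg)
  have h1 := lower hF 5 le_rfl (show (⟨g, hgG⟩ : ↥(chevE8.group F₂)) ∈ QG hF (5 + 1) from
    Subgroup.mem_subgroupOf.2 hg)
  rw [h, Subgroup.mem_bot] at h1
  exact Subgroup.mem_bot.2 (congrArg Subtype.val h1)

end Cfsg.Agent.Small.E8Cores
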