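import Cfsg.Agent.Lib.Small.E8Cores.Checks
import Cfsg.Agent.Lib.Lie.AllFacts
import Cfsg.Agent.Lib.Lie.Parabolic
import Cfsg.Agent.Lib.Lie.Tits

/-!
The maximal parabolic subgroup of E₈(2) at the branch node, and its radical series.
-/

set_option autoImplicit false
set_option maxRecDepth 10000

namespace Cfsg.Agent.Small.E8Cores

open Cfsg.Lie Cfsg.Agent.Lie Cfsg.Agent.Small.C2Inv.Cert
open Cfsg.Agent.Small.C2Inv.Cert.E8 (tab tabOk)
open scoped MatrixGroups

local notation "F₂" => ZMod 2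

variable (hF : Facts chevE8)

attribute [local irreducible] Lv LvL lev

/-- The nodes of the Levi factor. -/
def JJ : Set ℕ := {i | i ≠ 3}

/-- The parabolic subgroup. -/
noncomputable def PP : Subgroup (GL chevE8.Idx F₂) := chevE8.parabolicSubgroup F₂ JJ

/-- The term of the radical series. -/
noncomputable def QQ (j : ℕ) : Subgroup (GL chevE8.Idx F₂) := UL hF (Lv j)

theorem lt_rk {k : ℕ} (hk : k < 8) : k < chevE8.rank := by rw [rk]; exact hk

/-- The node representative. -/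
noncomputable def nd (k : ℕ) (hk : k < 8) : GL chevE8.Idx F₂ :=
  (hF.tsys F₂).nS ⟨k, lt_rk hk⟩

theorem one_of_ne_zero : ∀ t : F₂, t ≠ 0 → t = 1 := by decide

theorem one_of_sq {t : F₂} (h : t * t = 1) : t = 1 :=
  one_of_ne_zero t fun e => by simp [e] at h

include hF in
theorem sgn_one {i r : ℕ} (hi : i < chevE8.rank) (hr : r < chevE8.nroots) : hF.sgn F₂ i r = 1 :=
  one_of_sq (hF.sgn_mul_self hi hr)

include hF in
theorem H_bot : (hF.tsys F₂).H = ⊥ := by
  rw [eq_bot_iff]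
  refine (Subgroup.closure_le _).2 ?_
  rintro g ⟨r, t, -, ht, rfl⟩
  rw [one_of_ne_zero t ht, TorusSys.h_one]
  exact one_mem _

include hF in
theorem U_eq_B : (hF.tsys F₂).B = (hF.tsys F₂).U := by
  rw [TorusSys.B, H_bot hF, sup_bot_eq]

include hF in
theorem nd_sq {k : ℕ} (hk : k < 8) : nd hF k hk * nd hF k hk = 1 := by
  have h := (hF.tsys F₂).nS_sq_mem ⟨k, lt_rk hk⟩
  rw [H_bot hF, Subgroup.mem_bot] at h
  exact h

include hF in
theorem nd_inv {k : ℕ} (hk : k < 8) : (nd hF k hk)⁻¹ = nd hF k hk :=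
  inv_eq_of_mul_eq_one_left (nd_sq hF hk)

include hF in
theorem nd_eq {k : ℕ} (hk : k < 8) : nd hF k hk = hF.ng (chevE8.simple k) (1 : F₂) := hF.tsys_nS _

include hF in
theorem nd_x {k : ℕ} (hk : k < 8) {r : ℕ} (hr : r < 240) (t : F₂) :
    nd hF k hk * hF.xg r t * nd hF k hk = hF.xg (chevE8.reflectRoot k r) t := by
  have h := (hF.tsys F₂).nS_conj ⟨k, lt_rk hk⟩ (s := r) (by rw [nr]; exact hr) t
  rw [sgn_one hF (lt_rk hk) (by rw [nr]; exact hr), one_mul] at h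
  simp only [Facts.tsys_x] at h
  rw [← h, show ((hF.tsys F₂).nS ⟨k, lt_rk hk⟩)⁻¹ = nd hF k hk from nd_inv hF hk]
  rfl

include hF in
theorem braid {k l : ℕ} (hk : k < 8) (hl : l < 8)
    (h : chevE8.reflectRoot k (chevE8.simple l) = chevE8.reflectRoot l (chevE8.simple k)) :
    nd hF k hk * nd hF l hl * nd hF k hk = nd hF l hl * nd hF k hk * nd hF l hl := by
  have h1 := (hF.tsys F₂).nS_conj_n ⟨k, lt_rk hk⟩ (hF.simple_lt l (lt_rk hl)) (1 : F₂)
  have h2 := (hF.tsys F₂).nS_conj_n ⟨l, lt_rk hl⟩ (hF.simple_lt k (lt_rk hk)) (1 : F₂)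
  rw [sgn_one hF (lt_rk hk) (hF.simple_lt l (lt_rk hl)), one_mul] at h1
  rw [sgn_one hF (lt_rk hl) (hF.simple_lt k (lt_rk hk)), one_mul] at h2
  rw [h] at h1
  rw [show ((hF.tsys F₂).nS ⟨k, lt_rk hk⟩)⁻¹ = nd hF k hk from nd_inv hF hk] at h1
  rw [show ((hF.tsys F₂).nS ⟨l, lt_rk hl⟩)⁻¹ = nd hF l hl from nd_inv hF hl] at h2
  exact h1.trans h2.symm

include hF in
theorem closed_Lv {j : ℕ} (hj : j < 8) : Closed chevE8 (Lv j) := by
  unfold Lv
  exact closed_ext hF tabOk ⟨fun r hr => by simp [has_eq] at hr, fun r s hr => by simp [has_eq] at hr⟩ (ext_ok j hj)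

theorem has_Lv {j r : ℕ} : has (Lv j) r = true ↔ (120 ≤ r ∧ r < 240) ∧ j ≤ lev r := by
  rw [Lv, has_addBits, LvL, Bool.or_eq_true, decide_eq_true_eq, List.mem_filter, Facts.mem_posL, nr]
  simp [has_eq]

include hF in
theorem xg_mem_QQ {j r : ℕ} (h1 : 120 ≤ r) (h2 : r < 240) (h : j ≤ lev r) (t : F₂) : hF.xg r t ∈ QQ hF j :=
  xg_mem_UL hF (by rw [nr]; exact h1) (by rw [nr]; exact h2) (has_Lv.2 ⟨⟨h1, h2⟩, h⟩) t

include hF in
theorem QQ_le {j : ℕ} {H : Subgroup (GL chevE8.Idx F₂)}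
    (h : ∀ r, 120 ≤ r → r < 240 → j ≤ lev r → ∀ t : F₂, hF.xg r t ∈ H) : QQ hF j ≤ H :=
  CommSys.US_le _ fun r hr t => by
    obtain ⟨h1, h2⟩ := mem_lst.1 hr
    obtain ⟨⟨h3, h4⟩, h5⟩ := has_Lv.1 h2
    exact h r h3 h4 h5 t

include hF in
theorem QQ_mono {i j : ℕ} (hij : i ≤ j) : QQ hF j ≤ QQ hF i :=
  QQ_le hF fun _ h1 h2 h3 t => xg_mem_QQ hF h1 h2 (le_trans hij h3) t

include hF in
theorem QQ_zero : QQ hF 0 = (hF.tsys F₂).U := by
  refine le_antisymm (QQ_le hF fun r h1 h2 _ t => ?_) ?_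
  · exact (hF.tsys F₂).x_mem_U (by rw [nr]; exact h1) (by rw [nr]; exact h2) t
  · refine CommSys.US_le _ fun r hr t => ?_
    obtain ⟨h1, h2⟩ := Facts.mem_posL.1 hr
    exact xg_mem_QQ hF (by rw [nr] at h1; exact h1) (by rw [nr] at h2; exact h2) (Nat.zero_le _) t

include hF in
theorem QQ_seven : QQ hF 7 = ⊥ := by
  rw [eq_bot_iff]
  refine QQ_le hF fun r _ h2 h3 t => ?_
  have := lev_le r h2
  omega

include hF in
theorem QQ_six_ne : QQ hF 6 ≠ ⊥ := by
  obtain ⟨r, h1, h2, h3⟩ := top_root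
  intro h
  have hx := xg_mem_QQ hF h2 h1 h3.ge (1 : F₂)
  rw [h, Subgroup.mem_bot] at hx
  have h' := congrArg Units.val hx
  rw [Facts.coe_xg, Units.val_one] at h'
  exact one_ne_zero ((hF.x_eq_one r (by rw [nr]; exact h1) 1).1 h')

include hF in
theorem U_le_PP : (hF.tsys F₂).U ≤ PP := by
  refine le_trans ((hF.tsys F₂).U_le_B) ?_
  rw [hF.tsys_B]
  exact le_sup_left

include hF in
theorem QQ_le_PP (j : ℕ) : QQ hF j ≤ PP :=
  (QQ_mono hF (Nat.zero_le j)).trans ((QQ_zero hF).le.trans (U_le_PP hF))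

include hF in
theorem nd_mem_PP {k : ℕ} (hk : k < 8) (h3 : k ≠ 3) : nd hF k hk ∈ PP :=
  hF.nS_mem_parabolic JJ (lt_rk hk) h3

include hF in
theorem conj_QQ {j : ℕ} (hj : 1 ≤ j) (hj' : j < 8) {m : GL chevE8.Idx F₂} (hm : m ∈ PP)
    {g : GL chevE8.Idx F₂} (hg : g ∈ QQ hF j) : m * g * m⁻¹ ∈ QQ hF j := by
  have hchk := norm_ok j hj' hj
  simp only [normOk, force_eq, Bool.and_eq_true, List.all_eq_true, List.mem_range, Bool.or_eq_true,
    beq_iff_eq, Bool.not_eq_true'] at hchk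
  obtain ⟨hrow, hrefl⟩ := hchk
  suffices hle : PP ≤ Subgroup.normalizer (QQ hF j : Set (GL chevE8.Idx F₂)) from
    (Subgroup.mem_normalizer_iff.1 (hle hm) g).1 hg
  have hself : ∀ a : GL chevE8.Idx F₂, a⁻¹ = a → (∀ x ∈ QQ hF j, a * x * a ∈ QQ hF j) →
      a ∈ Subgroup.normalizer (QQ hF j : Set (GL chevE8.Idx F₂)) := by
    intro a ha h
    rw [Subgroup.mem_normalizer_iff]
    intro x
    rw [ha]
    refine ⟨h x, fun hx => ?_⟩
    have h1 := h _ hx
    have haa : a * a = 1 := by rw [← mul_inv_cancel a, ha]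
    rwa [show a * (a * x * a) * a = (a * a) * x * (a * a) by group, haa, one_mul, mul_one] at h1
  refine sup_le ?_ ((Subgroup.closure_le _).2 ?_)
  · rw [← hF.tsys_B, U_eq_B hF]
    refine CommSys.US_le _ fun r hr t => ?_
    rw [Facts.tsys_x]
    have hinv : (hF.xg r t)⁻¹ = hF.xg r t := by rw [← hF.xg_neg, CharTwo.neg_eq]
    refine hself _ hinv fun x hx => ?_
    obtain ⟨h1, h2⟩ := Facts.mem_posL.1 hr
    refine conj_mem_UL hF h2 (fun s hs => ⟨fun e => ?_, fun hne c hc => ?_⟩) (closed_Lv hF hj').pos t hx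
    · have h3 := ((closed_Lv hF hj').pos s hs).1
      rw [e] at h3
      have := (hF.neg_ge_iff h2).1 h3
      omega
    · obtain ⟨hs1, hs2⟩ := (closed_Lv hF hj').pos s hs
      have he := entry_of_term hF tabOk h1 h2 hs1 hs2 (Ne.symm hne) hc
      rcases hrow r (Facts.mem_posL.2 ⟨h1, h2⟩) _ he with h | h
      · simp only at h; rw [hs] at h; cases h
      · exact h
  · rintro a ⟨k, hk3, hk, ha⟩
    rw [hF.eq_tsys_nS hk ha]
    have hk8 : k < 8 := rk ▸ hk
    change nd hF k hk8 ∈ _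
    refine hself _ (nd_inv hF hk8) fun x hx => ?_
    obtain ⟨-, hstab⟩ := (hrefl k hk8).resolve_left hk3
    have hle : QQ hF j ≤ (QQ hF j).comap (MulAut.conj (nd hF k hk8)).toMonoidHom := by
      refine QQ_le hF fun r h1 h2 h3 t => ?_
      rw [Subgroup.mem_comap, MulEquiv.coe_toMonoidHom, MulAut.conj_apply]
      rw [nd_inv hF hk8, nd_x hF hk8 h2]
      rcases hstab r (Facts.mem_posL.2 (by rw [nr]; exact ⟨h1, h2⟩)) with h | h
      · rw [has_Lv.2 ⟨⟨h1, h2⟩, h3⟩] at h; cases h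
      · rw [tabOk.refl' hk (by rw [nr]; exact h2)] at h
        obtain ⟨⟨a1, a2⟩, a3⟩ := has_Lv.1 h
        exact xg_mem_QQ hF a1 a2 a3 t
    have h1 := Subgroup.mem_comap.1 (hle hx)
    rw [MulEquiv.coe_toMonoidHom, MulAut.conj_apply, nd_inv hF hk8] at h1
    exact h1

include hF in
theorem drop_QQ {i : ℕ} (hi : i < 6) {g : GL chevE8.Idx F₂} (hg : g ∈ QQ hF (i + 2)) :
    nd hF 3 (by norm_num) * g * nd hF 3 (by norm_num) ∈ QQ hF (i + 1) := by
  have hle : QQ hF (i + 2) ≤ (QQ hF (i + 1)).comap (MulAut.conj (nd hF 3 (by norm_num))).toMonoidHom := by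
    refine QQ_le hF fun r h1 h2 h3 t => ?_
    rw [Subgroup.mem_comap, MulEquiv.coe_toMonoidHom, MulAut.conj_apply]
    rw [nd_inv hF, nd_x hF _ h2]
    obtain ⟨a1, a2⟩ := drop_ok i hi r h2 h1 h3
    have := hF.refl_lt 3 (by rw [rk]; norm_num) r (by rw [nr]; exact h2)
    exact xg_mem_QQ hF a1 (by rw [nr] at this; exact this) a2 t
  have h1 := Subgroup.mem_comap.1 (hle hg)
  rw [MulEquiv.coe_toMonoidHom, MulAut.conj_apply, nd_inv hF] at h1
  exact h1

include hF in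
include hF in
theorem exists_QQ {j : ℕ} (hj : j < 8) {g : GL chevE8.Idx F₂} (hg : g ∈ QQ hF j) :
    ∃ c : ℕ → F₂, Supp chevE8 (Lv j) c ∧ g = el hF c :=
  exists_supp hF (closed_Lv hF hj) hg

include hF in
theorem el_QQ {j : ℕ} {c : ℕ → F₂} (hc : Supp chevE8 (Lv j) c) : el hF c ∈ QQ hF j := el_mem hF hc

include hF in
/-- The representatives as elements of the group. -/
theorem nd_mem_group {k : ℕ} (hk : k < 8) : nd hF k hk ∈ chevE8.group F₂ := hF.nS_mem_group _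

include hF in
theorem PP_le_group : PP ≤ chevE8.group F₂ := by
  refine sup_le hF.borel_le_group ((Subgroup.closure_le _).2 ?_)
  rintro a ⟨k, -, hk, ha⟩
  rw [hF.eq_tsys_nS hk ha]
  exact hF.nS_mem_group _

/-- The fundamental representatives of the Levi factor. -/
def Slevi : Set ↥(chevE8.group F₂) := {x | ∃ k, ∃ hk : k < 8, k ≠ 3 ∧ x.1 = nd hF k hk}

include hF in
theorem Slevi_subset : Slevi hF ⊆ (hF.bnPair F₂).S := by
  rintro x ⟨k, hk, -, hx⟩
  exact ⟨⟨k, lt_rk hk⟩, Subtype.ext hx.symm⟩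

include hF in
theorem bn_B : (hF.bnPair F₂).B = ((hF.tsys F₂).B).subgroupOf (chevE8.group F₂) := by
  rw [hF.tsys_B]; rfl

include hF in
theorem PP_subgroupOf_le : PP.subgroupOf (chevE8.group F₂) ≤ (hF.bnPair F₂).parabolic (Slevi hF) := by
  have key : PP ≤ ((hF.bnPair F₂).parabolic (Slevi hF)).map (chevE8.group F₂).subtype := by
    refine sup_le ?_ ((Subgroup.closure_le _).2 ?_)
    · intro b hb
      exact ⟨⟨b, hF.borel_le_group hb⟩, Subgroup.mem_sup_left hb, rfl⟩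
    · rintro a ⟨k, hk3, hk, ha⟩
      rw [hF.eq_tsys_nS hk ha]
      exact ⟨⟨_, hF.nS_mem_group _⟩,
        Subgroup.mem_sup_right (Subgroup.subset_closure ⟨k, rk ▸ hk, hk3, rfl⟩), rfl⟩
  intro x hx
  obtain ⟨y, hy, he⟩ := key hx
  rwa [← Subtype.ext he]

include hF in
theorem parabolic_le_PP : (hF.bnPair F₂).parabolic (Slevi hF) ≤ PP.subgroupOf (chevE8.group F₂) := by
  refine sup_le ?_ ((Subgroup.closure_le _).2 ?_)
  · exact fun b hb => Subgroup.mem_sup_left hb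
  · rintro x ⟨k, hk, h3, hx⟩
    show x.1 ∈ PP
    rw [hx]
    exact nd_mem_PP hF hk h3

include hF in
theorem not_mem_PP : nd hF 3 (by norm_num) ∉ PP := by
  intro h
  have h1 : (⟨_, nd_mem_group hF (k := 3) (by norm_num)⟩ : ↥(chevE8.group F₂)) ∈
      (hF.bnPair F₂).parabolic (Slevi hF) := PP_subgroupOf_le hF h
  have hs : (⟨_, nd_mem_group hF (k := 3) (by norm_num)⟩ : ↥(chevE8.group F₂)) ∈ (hF.bnPair F₂).S :=
    ⟨⟨3, by rw [rk]; norm_num⟩, rfl⟩
  obtain ⟨k, hk, hk3, hx⟩ := (Tits.S_inter_parabolic (Slevi_subset hF) hs).1 h1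
  have e : (⟨k, lt_rk hk⟩ : Fin chevE8.rank) = ⟨3, by rw [rk]; norm_num⟩ := by
    refine hF.wS_inj (hF.nW_eq_of_mul (F := F₂) (one_mem _) (one_mem _) ?_)
    obtain ⟨a, ha, hae⟩ := hF.nS_eq_nW (F := F₂) ⟨k, lt_rk hk⟩
    obtain ⟨b, hb, hbe⟩ := hF.nS_eq_nW (F := F₂) ⟨3, by rw [rk]; norm_num⟩
    rw [H_bot hF, Subgroup.mem_bot] at ha hb
    simp only [ha, hb, one_mul] at hae hbe ⊢
    rw [← hae, ← hbe]
    exact hx.symm
  exact hk3 (congrArg Fin.val e)

include hF in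
theorem nd_posNe {k : ℕ} (hk : k < 8) {v : GL chevE8.Idx F₂}
    (hv : v ∈ (hF.tsys F₂).US (TorusSys.posNe chevE8 ⟨k, lt_rk hk⟩)) :
    nd hF k hk * v * nd hF k hk ∈ (hF.tsys F₂).U := by
  have := ((hF.tsys F₂).nS_conj_posNe ⟨k, lt_rk hk⟩ hv).1
  rw [show ((hF.tsys F₂).nS ⟨k, lt_rk hk⟩)⁻¹ = nd hF k hk from nd_inv hF hk] at this
  exact TorusSys.US_posNe_le_U _ _ this

include hF in
theorem nd_split {k : ℕ} (hk : k < 8) (a b : GL chevE8.Idx F₂) :
    nd hF k hk * (a * b) * nd hF k hk = nd hF k hk * a * nd hF k hk * (nd hF k hk * b * nd hF k hk) := by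
  rw [show nd hF k hk * a * nd hF k hk * (nd hF k hk * b * nd hF k hk) =
    nd hF k hk * a * (nd hF k hk * nd hF k hk) * (b * nd hF k hk) by simp only [mul_assoc], nd_sq hF hk]
  simp only [mul_one, mul_assoc]

attribute [local irreducible] QQ nd

/-- A coefficient at a fundamental root. -/
theorem coef_simple_zero {k : ℕ} (hk : k < 8) {c : ℕ → F₂} {H : Subgroup (GL chevE8.Idx F₂)}
    (hU : (hF.tsys F₂).U ≤ H) (hn : nd hF k hk * el hF c * nd hF k hk ∈ H) (hnk : nd hF k hk ∉ H) :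
    c (chevE8.simple k) = 0 := by
  have hk' : k < chevE8.rank := lt_rk hk
  have hcU : el hF c ∈ (hF.tsys F₂).U := by
    rw [← QQ_zero hF]
    refine el_QQ hF fun r h1 h2 hr => ?_
    rw [has_Lv.2 ⟨⟨by rw [nr] at h1; exact h1, by rw [nr] at h2; exact h2⟩, Nat.zero_le _⟩] at hr
    cases hr
  obtain ⟨v, hv, t, he⟩ := (hF.tsys F₂).U_split ⟨k, hk'⟩ hcU
  rw [Facts.tsys_x] at he
  by_cases ht : t = 0
  · rw [ht, hF.xg_zero, mul_one] at he
    have hsα := hF.simple_ge k hk'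
    have hsl := hF.simple_lt k hk'
    have hclosed : Closed chevE8 (rem (Lv 0) (chevE8.simple k)) := by
      refine ⟨fun r hr => (closed_Lv hF (by norm_num)).pos r (has_rem_iff.1 hr).2,
        fun r s hr hs hne d hd => has_rem_iff.2 ⟨fun e => ?_,
          (closed_Lv hF (by norm_num)).closed r s (has_rem_iff.1 hr).2 (has_rem_iff.1 hs).2 hne d hd⟩⟩
      have hr' := (closed_Lv hF (by norm_num)).pos r (has_rem_iff.1 hr).2
      have hs' := (closed_Lv hF (by norm_num)).pos s (has_rem_iff.1 hs).2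
      obtain ⟨a1, b1, hw⟩ := hF.commTerms_psi hr'.2 hs'.2 (List.mem_filter.1 hd).1
      exact TorusSys.not_simple_sum (hF := hF) ⟨k, hk'⟩
        (TorusSys.mem_posNe.2 ⟨hr'.1, hr'.2, (has_rem_iff.1 hr).1.symm⟩)
        (TorusSys.mem_posNe.2 ⟨hs'.1, hs'.2, (has_rem_iff.1 hs).1.symm⟩) e.symm _ _ a1 b1 hw
    have hmem : el hF c ∈ UL hF (rem (Lv 0) (chevE8.simple k)) := by
      rw [he]
      refine (CommSys.US_le _ fun r hr u => ?_ :
        (hF.tsys F₂).US (TorusSys.posNe chevE8 ⟨k, hk'⟩) ≤ _) hv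
      obtain ⟨h1, h2, h3⟩ := TorusSys.mem_posNe.1 hr
      exact xg_mem_UL hF h1 h2 (has_rem_iff.2 ⟨Ne.symm h3, has_Lv.2 ⟨⟨by rw [nr] at h1; exact h1,
        by rw [nr] at h2; exact h2⟩, Nat.zero_le _⟩⟩) u
    obtain ⟨c', hc', he'⟩ := exists_supp hF hclosed hmem
    rw [el_inj hF he' _ hsα hsl]
    refine hc' _ hsα hsl ?_
    rw [has_rem]
    simp
  · exfalso
    rw [one_of_ne_zero t ht] at he
    have h1 : nd hF k hk * v * nd hF k hk ∈ H := hU (nd_posNe hF hk hv)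
    rw [he, nd_split hF hk, nd_x hF hk (by rw [← nr]; exact hF.simple_lt k hk')] at hn
    have hx : hF.xg (chevE8.reflectRoot k (chevE8.simple k)) (1 : F₂) ∈ H :=
      (Subgroup.mul_mem_cancel_left _ h1).1 hn
    refine hnk ?_
    rw [nd_eq hF hk, hF.ng_eq, inv_one, CharTwo.neg_eq, ← Facts.refl_simple k]
    have hxa := hU ((hF.tsys F₂).x_mem_U (hF.simple_ge k hk') (hF.simple_lt k hk') (1 : F₂))
    exact mul_mem (mul_mem hxa hx) hxa

include hF in
/-- A subgroup normalised by the Levi nodes steps down the series. -/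
theorem descend {N : Subgroup (GL chevE8.Idx F₂)} {j : ℕ} (hj : j < 7) (hN : N ≤ QQ hF j)
    (hlev : ∀ k (hk : k < 8), k ≠ 3 → ∀ g ∈ N, nd hF k hk * g * nd hF k hk ∈ N)
    (htop : 2 ≤ j → ∀ g ∈ N, nd hF 3 (by norm_num) * g * nd hF 3 (by norm_num) ∈ QQ hF j)
    (hbot : ∀ g ∈ N, ∀ c : ℕ → F₂, g = el hF c → ∀ k, k < 8 → isBottom j (chevE8.simple k) = true →
      c (chevE8.simple k) = 0) : N ≤ QQ hF (j + 1) := by
  have hLj := closed_Lv hF (show j < 8 by omega)
  suffices key : ∀ p, 120 ≤ p → p < 240 → lev p = j → ∀ g ∈ N, ∀ c : ℕ → F₂, g = el hF c →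
      Supp chevE8 (Lv j) c → c p = 0 by
    intro g hg
    obtain ⟨c, hc, rfl⟩ := exists_QQ hF (by omega) (hN hg)
    refine el_QQ hF fun r h1 h2 hr => ?_
    rw [nr] at h1 h2
    by_cases hlr : j ≤ lev r
    · refine key r h1 h2 (le_antisymm ?_ hlr) _ hg c rfl hc
      by_contra hlt
      rw [has_Lv.2 ⟨⟨h1, h2⟩, by omega⟩] at hr
      cases hr
    · refine hc r (by rw [nr]; exact h1) (by rw [nr]; exact h2) (Bool.eq_false_iff.2 fun h => hlr (has_Lv.1 h).2)
  intro p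
  induction p using Nat.strong_induction_on with
  | _ p ih =>
    intro hp hp' hlp g hg c hgc hc
    have hchk := desc_ok j hj p hp' hp
    rw [descOk, decide_eq_true hlp] at hchk
    simp only [Bool.not_true, Bool.false_or, Bool.or_eq_true, force_eq, Bool.and_eq_true, List.any_eq_true,
      List.mem_range] at hchk
    rcases hchk with hb | ⟨hext, k, hk, hd⟩
    · obtain ⟨k, hk, hpk⟩ : ∃ k, k < 8 ∧ p = chevE8.simple k := by
        simp only [isBottom, Bool.and_eq_true, List.any_eq_true, List.mem_range, beq_iff_eq] at hb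
        obtain ⟨-, k, hk, h, -⟩ := hb
        exact ⟨k, hk, h⟩
      subst hpk
      exact hbot g hg c hgc k hk hb
    have hL := closed_ext hF tabOk
      ⟨fun r hr => by simp [has_eq] at hr, fun r s hr => by simp [has_eq] at hr⟩ hext
    have hcL : Supp chevE8 (addBits 0 (DL j p)) c := by
      intro r h1 h2 hr
      rw [has_addBits, DL, Bool.or_eq_false_iff, decide_eq_false_iff_not, List.mem_filter, Facts.mem_posL] at hr
      rw [nr] at h1 h2
      by_cases hlr : j ≤ lev r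
      · have hle : lev r = j ∧ r < p := by
          have := hr.2
          simp only [nr, h1, h2, and_self, true_and, Bool.or_eq_true, decide_eq_true_eq, Bool.and_eq_true] at this
          omega
        exact ih r hle.2 h1 h2 hle.1 g hg c hgc hc
      · exact hc r (by rw [nr]; exact h1) (by rw [nr]; exact h2)
          (Bool.eq_false_iff.2 fun h => hlr (has_Lv.1 h).2)
    simp only [descK, force_eq, Bool.and_eq_true, Bool.not_eq_true', List.all_eq_true, Bool.or_eq_true,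
      decide_eq_true_eq, beq_iff_eq] at hd
    obtain ⟨⟨⟨⟨⟨hs, hpos⟩, hq1⟩, hq2⟩, hqq⟩, ⟨hq3, hq4⟩, hq5⟩ := hd
    have hk' : k < chevE8.rank := lt_rk hk
    have himg : ∀ s, chevE8.nroots / 2 ≤ s → s < chevE8.nroots →
        has (imgM k (addBits 0 (DL j p))) s = has (addBits 0 (DL j p)) (tab.R chevE8 k s) := by
      intro s h1 h2
      rw [imgM, has_addBits, show has 0 s = false by simp [has_eq], Bool.false_or]
      cases h : has (addBits 0 (DL j p)) (tab.R chevE8 k s) <;> simp [List.mem_filter, Facts.mem_posL, h1, h2, h]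
    have hpos' : ∀ s, has (imgM k (addBits 0 (DL j p))) s = true → chevE8.nroots / 2 ≤ s ∧ s < chevE8.nroots := by
      intro s h
      rw [imgM, has_addBits, Bool.or_eq_true, decide_eq_true_eq, List.mem_filter, Facts.mem_posL] at h
      rcases h with h | h
      · simp [has_eq] at h
      · exact h.1
    obtain ⟨hcl, c', hc', heq, hval⟩ := refl_step hF tabOk hk' hs hL himg hpos' hcL
    have hv := hval _ hq3 (indec_of_indecB hF tabOk hcl hq4)
    rw [hqq] at hv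
    rw [← hv]
    rw [← nd_eq hF hk, nd_inv hF hk, ← hgc] at heq
    set p' := tab.R chevE8 k p with hp'def
    have h1p : chevE8.nroots / 2 ≤ p' := by rw [nr]; exact hq1
    have h2p : p' < chevE8.nroots := by rw [nr]; exact hq2
    have hQ : (k ≠ 3 ∧ lev p' = j ∧ p' < p) ∨ (k = 3 ∧ 2 ≤ j ∧ lev p' < j) := by
      by_cases h3 : k = 3
      · simp only [h3, if_true, beq_self_eq_true, Bool.and_eq_true, decide_eq_true_eq] at hq5
        exact Or.inr ⟨h3, hq5⟩
      · rw [if_neg (by simpa using h3), Bool.and_eq_true, decide_eq_true_eq, decide_eq_true_eq] at hq5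
        exact Or.inl ⟨h3, hq5⟩
    rcases hQ with ⟨h3, hlev', hlt⟩ | ⟨rfl, h2j, hlev'⟩
    · have hgN := hlev k hk h3 g hg
      obtain ⟨d, hd, hde⟩ := exists_QQ hF (by omega) (hN hgN)
      rw [el_inj hF (heq.symm.trans hde) p' h1p h2p]
      exact ih p' hlt hq1 hq2 hlev' _ hgN d hde hd
    · obtain ⟨d, hd, hde⟩ := exists_QQ hF (by omega) (htop h2j g hg)
      rw [el_inj hF (heq.symm.trans hde) p' h1p h2p]
      refine hd p' h1p h2p (Bool.eq_false_iff.2 fun h => ?_)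
      have := (has_Lv.1 h).2
      omega

end Cfsg.Agent.Small.E8Cores
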